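import Cfsg.Agent.H26.Ore.Fi24Deg
import Cfsg.Agent.H954.LD.Row
import Cfsg.Agent.KFacts.FiTF.FrameF

/-!
# S4910, row `Fi24'`: an irreducible character of `Fi24'` whose degree is not divisible by 391 extends to `Fi24` (helper111)

* `dvd_or_ext`, `inv_of_not_dvd`;
* `ext_8671`, `inv_8671` : the characters of degree 8671 are invariant under all automorphisms.
-/

set_option autoImplicit false
set_option linter.unusedSectionVars false

open Cfsg

namespace Cfsg.Agent.H111.LD

open Subgroup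
open Cfsg.Agent.Characters Cfsg.Agent.Characters.Core Cfsg.Agent.OddOrderCharacters
open Cfsg.Agent.R08.FiTwentyFour (L index_commutator card_commutator finite_Fi24)
open Cfsg.Agent.H48.OreFi (finite')
open Cfsg.Agent.H845.T13 (facts)
open Cfsg.Agent.H26.Ore Cfsg.Agent.H26.Ore.Fi24Deg

/-- **characters which do not extend** -/
theorem dvd_of_not_ext {χ : IrrCharacter Spor.Fi24'} {psi : IrrCharacter Spor.Fi24}
    (h0 : ∀ g : Spor.Fi24, g ∉ commutator Spor.Fi24 → (psi : Spor.Fi24 → ℂ) g = 0)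
    (h2 : ∀ g : Spor.Fi24', ∀ t : Spor.Fi24, t ∉ commutator Spor.Fi24 → Commute t (g : Spor.Fi24) →
      (psi : Spor.Fi24 → ℂ) (g : Spor.Fi24) = 2 * (χ : Spor.Fi24' → ℂ) g) :
    391 ∣ charDegree (χ : Spor.Fi24' → ℂ) := by
  have hfin : Finite Spor.Fi24' := finite'
  have hfin' := finite_Fi24
  obtain ⟨n, u, B, C, V⟩ := H180.PSD.exists_vals psi
  have hχ1 : (χ : Spor.Fi24' → ℂ) 1 = (charDegree (χ : Spor.Fi24' → ℂ) : ℂ) := Blocks.Knorr.charDegree_eq χ.2
  set N := charDegree (χ : Spor.Fi24' → ℂ) with hN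
  have hl : Cfsg.Agent.Fischer.Fi24Rep.gen .l ∉ commutator Spor.Fi24 := R08.FiTwentyFour.odd facts.hl
  have h1 := h2 1 _ hl (Commute.one_right _)
  rw [OneMemClass.coe_one, V.one, hχ1] at h1
  have hnN : n = 2 * N := by exact_mod_cast h1
  subst hnN
  -- the value at the transpositions
  have hu : u = 0 := by
    have h3 := V.val_d _ facts.hl
    rw [h0 _ hl] at h3
    exact_mod_cast h3.symm
  subst hu
  have e13 := h2 z13 _ hl (by
    show Commute _ (_ * _)
    exact (Commute.refl _).mul_right facts.lu)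
  rw [val_z13 V] at e13
  have hzz : z13 * z13 = 1 := by
    apply Subtype.ext
    have h3 : Commute (Cfsg.Agent.Fischer.Fi24Rep.gen .l) H845.T13.u := facts.lu
    show Cfsg.Agent.Fischer.Fi24Rep.gen .l * H845.T13.u * (Cfsg.Agent.Fischer.Fi24Rep.gen .l * H845.T13.u) = 1
    rw [h3.symm.mul_mul_mul_comm, facts.ll, facts.uu, mul_one]
  obtain ⟨b, hb⟩ := Nrm.exists_int_invol (isIrr_isCharacter χ.2) hzz
  rw [hb] at e13
  have hB : B = 2 * b := by exact_mod_cast e13
  subst hB
  -- the value at the product of order 3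
  set w : Spor.Fi24' := ⟨_, R08.FiTwentyFour.even facts.hl facts.hk⟩ with hw
  have ew := h2 w _ (R08.FiTwentyFour.odd facts.hu) (by
    show Commute _ (_ * _)
    exact (show Commute _ _ from facts.lu.symm).mul_right (show Commute _ _ from facts.ku.symm))
  rw [show (psi : Spor.Fi24 → ℂ) (w : Spor.Fi24) = C from V.val_n _ facts.hl _ facts.hk facts.lkn] at ew
  obtain ⟨c, hc⟩ := Characters.GaloisBasic.exists_int_of_rat (isIrr_isCharacter χ.2) w
    ⟨(C : ℚ) / 2, by push_cast; linear_combination -(1 / 2) * ew⟩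
  rw [hc] at ew
  have hC : C = 2 * c := by exact_mod_cast ew
  subst hC
  have hpos := V.pos
  have hrel : (N : ℤ) + 31671 * b + 275264 * c = 0 := by
    have h3 := V.rel
    have h4 : (2 * (N : ℤ)) * (2 * ((N : ℤ) + 31671 * b + 275264 * c)) = 0 := by linarith
    rcases mul_eq_zero.1 h4 with h5 | h5 <;> omega
  have : (391 : ℤ) ∣ (N : ℤ) := ⟨-(81 * b + 704 * c), by linarith⟩
  exact_mod_cast this

/-- **A character of `Fi24'` whose degree is not divisible by 391 extends to `Fi24`.** -/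
theorem dvd_or_ext (χ : IrrCharacter Spor.Fi24') : 391 ∣ charDegree (χ : Spor.Fi24' → ℂ) ∨
    ∃ psi : IrrCharacter Spor.Fi24, ∀ g : Spor.Fi24', (psi : Spor.Fi24 → ℂ) (g : Spor.Fi24) = (χ : Spor.Fi24' → ℂ) g := by
  have hfin' := finite_Fi24
  obtain ⟨psi, hpsi, h1 | ⟨h0, h2⟩⟩ := index_two (commutator Spor.Fi24) index_commutator χ.2
  · exact Or.inr ⟨⟨psi, hpsi⟩, h1⟩
  · exact Or.inl (dvd_of_not_ext (χ := χ) (psi := ⟨psi, hpsi⟩) h0 h2)

/-- a character of `Fi24'` which extends to `Fi24` is invariant -/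
theorem inv_of_ext {χ : IrrCharacter Spor.Fi24'} {psi : IrrCharacter Spor.Fi24}
    (h : ∀ g : Spor.Fi24', (psi : Spor.Fi24 → ℂ) (g : Spor.Fi24) = (χ : Spor.Fi24' → ℂ) g) : H954.LD.Inv χ := by
  intro b s
  obtain ⟨g, hg⟩ := Cfsg.Agent.KFacts.FiTF.exists_conj b
  rw [← h, ← h, hg]
  exact isIrr_isClassFunction psi.2 _ g

/-- **A character of `Fi24'` whose degree is not divisible by 391 is invariant under all automorphisms.** -/
theorem inv_of_not_dvd (χ : IrrCharacter Spor.Fi24') (h : ¬ 391 ∣ charDegree (χ : Spor.Fi24' → ℂ)) : H954.LD.Inv χ := by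
  rcases dvd_or_ext χ with h1 | ⟨psi, h1⟩
  · exact absurd h1 h
  · exact inv_of_ext h1

theorem ext_8671 (χ : IrrCharacter Spor.Fi24') (h : charDegree (χ : Spor.Fi24' → ℂ) = 8671) :
    ∃ psi : IrrCharacter Spor.Fi24, ∀ g : Spor.Fi24', (psi : Spor.Fi24 → ℂ) (g : Spor.Fi24) = (χ : Spor.Fi24' → ℂ) g :=
  (dvd_or_ext χ).resolve_left (by rw [h]; norm_num)

/-- **The characters of degree 8671 are invariant.** -/
theorem inv_8671 (χ : IrrCharacter Spor.Fi24') (h : charDegree (χ : Spor.Fi24' → ℂ) = 8671) : H954.LD.Inv χ :=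
  inv_of_not_dvd χ (by rw [h]; norm_num)

end Cfsg.Agent.H111.LD
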