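import Cfsg.Agent.H26.Ore.Fi24Deg
import Cfsg.Agent.H111.LD.Arith3

/-!
# S4910, row `Fi24'`, piece A3: the non-trivial irreducible characters of `Fi24'` have degree at least 8671 (helper111)
-/

set_option autoImplicit false
set_option linter.unusedSectionVars false

open Cfsg

namespace Cfsg.Agent.H111.LD

open Subgroup
open Cfsg.Agent.Characters Cfsg.Agent.Characters.Core Cfsg.Agent.OddOrderCharacters
open Cfsg.Agent.R08.FiTwentyFour (L index_commutator card_commutator finite_Fi24)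
open Cfsg.Agent.H48.OreFi (finite')
open Cfsg.Agent.H845.T13 (facts)
open Cfsg.Agent.H26.Ore Cfsg.Agent.H26.Ore.Fi24Deg

/-- **characters which extend** -/
theorem caseE3 {χ : IrrCharacter Spor.Fi24'} {psi : IrrCharacter Spor.Fi24} (hne : (χ : Spor.Fi24' → ℂ) ≠ 1)
    (h : ∀ g : Spor.Fi24', (psi : Spor.Fi24 → ℂ) (g : Spor.Fi24) = (χ : Spor.Fi24' → ℂ) g)
    (h1n : 1 < charDegree (χ : Spor.Fi24' → ℂ)) : 8671 ≤ charDegree (χ : Spor.Fi24' → ℂ) := by
  have hfin : Finite Spor.Fi24' := finite'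
  have hfin' := finite_Fi24
  have hsim := simple_F'
  obtain ⟨n, u, B, C, V⟩ := H180.PSD.exists_vals psi
  have hχ1 : (χ : Spor.Fi24' → ℂ) 1 = (charDegree (χ : Spor.Fi24' → ℂ) : ℂ) := Blocks.Knorr.charDegree_eq χ.2
  set N := charDegree (χ : Spor.Fi24' → ℂ) with hN
  have h1 := h 1
  rw [OneMemClass.coe_one, V.one, hχ1] at h1
  have hnN : n = N := by exact_mod_cast h1
  subst hnN
  have hz13 : (χ : Spor.Fi24' → ℂ) z13 = B := by rw [← h]; exact val_z13 V
  have hz11 : (χ : Spor.Fi24' → ℂ) H843.Ore.R11.z = B := by rw [← h]; exact val_z11 V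
  refine arithE3 (n := N) (u := u) (B := B) (C := C) ?_ h1n (res23 χ) (res17 χ) V.rel V.psd1 V.psd2 V.dvd_u ?_
    (three_psi V) (abs_le χ hχ1 hz13) ?_ ?_ (H843.Ore.R11.r11 χ hχ1 hz11) ?_
  · rw [← card_F']
    exact Blocks.Knorr.charDegree_dvd χ.2
  · obtain ⟨c, hc⟩ := V.dvd_B
    exact ⟨2 * c, by linarith⟩
  · exact abs_le psi (by rw [V.one]; norm_cast) (V.val_d _ facts.hl)
  · intro hB
    have := Fintype.ofFinite Spor.Fi24'
    have h2 := SmallSimple.DihedralNormalizer.eq_one_of_apply_eq χ.2 hne (s := z13) (by rw [hz13, hχ1, hB]; norm_cast)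
    have h3 : (z13 : Spor.Fi24) = 1 := congrArg (fun y : Spor.Fi24' => (y : Spor.Fi24)) h2
    have h4 : H845.T13.u = (Cfsg.Agent.Fischer.Fi24Rep.gen .l)⁻¹ := eq_inv_of_mul_eq_one_right h3
    exact lu_ne (h4.trans (inv_eq_of_mul_eq_one_right facts.ll)).symm
  · exact R13.r13 facts index_commutator (fun d hd => R08.FiTwentyFour.odd hd) _ χ hχ1 hz13

/-- **characters which do not extend** -/
theorem caseS3 {χ : IrrCharacter Spor.Fi24'} {psi : IrrCharacter Spor.Fi24}
    (h0 : ∀ g : Spor.Fi24, g ∉ commutator Spor.Fi24 → (psi : Spor.Fi24 → ℂ) g = 0)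
    (h2 : ∀ g : Spor.Fi24', ∀ t : Spor.Fi24, t ∉ commutator Spor.Fi24 → Commute t (g : Spor.Fi24) →
      (psi : Spor.Fi24 → ℂ) (g : Spor.Fi24) = 2 * (χ : Spor.Fi24' → ℂ) g) :
    8671 ≤ charDegree (χ : Spor.Fi24' → ℂ) := by
  have hfin : Finite Spor.Fi24' := finite'
  have hfin' := finite_Fi24
  obtain ⟨n, u, B, C, V⟩ := H180.PSD.exists_vals psi
  have hχ1 : (χ : Spor.Fi24' → ℂ) 1 = (charDegree (χ : Spor.Fi24' → ℂ) : ℂ) := Blocks.Knorr.charDegree_eq χ.2
  set N := charDegree (χ : Spor.Fi24' → ℂ) with hN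
  have hl : Cfsg.Agent.Fischer.Fi24Rep.gen .l ∉ commutator Spor.Fi24 := R08.FiTwentyFour.odd facts.hl
  have h1 := h2 1 _ hl (Commute.one_right _)
  rw [OneMemClass.coe_one, V.one, hχ1] at h1
  have hnN : n = 2 * N := by exact_mod_cast h1
  subst hnN
  -- the value at the transpositions
  have hu : u = 0 := by
    have h3 := V.val_d _ facts.hl
    rw [h0 _ hl] at h3
    exact_mod_cast h3.symm
  subst hu
  have e13 := h2 z13 _ hl (by
    show Commute _ (_ * _)
    exact (Commute.refl _).mul_right facts.lu)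
  have e11 := h2 H843.Ore.R11.z _ (R08.FiTwentyFour.odd H843.Ore.R11.t1_mem) (by
    show Commute _ (_ * _)
    exact (Commute.refl _).mul_right H843.D11.c12)
  rw [val_z13 V] at e13
  rw [val_z11 V] at e11
  have hzz : z13 * z13 = 1 := by
    apply Subtype.ext
    have h3 : Commute (Cfsg.Agent.Fischer.Fi24Rep.gen .l) H845.T13.u := facts.lu
    show Cfsg.Agent.Fischer.Fi24Rep.gen .l * H845.T13.u * (Cfsg.Agent.Fischer.Fi24Rep.gen .l * H845.T13.u) = 1
    rw [h3.symm.mul_mul_mul_comm, facts.ll, facts.uu, mul_one]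
  obtain ⟨b, hb⟩ := Nrm.exists_int_invol (isIrr_isCharacter χ.2) hzz
  rw [hb] at e13
  have hB : B = 2 * b := by exact_mod_cast e13
  subst hB
  have hb11 : (χ : Spor.Fi24' → ℂ) H843.Ore.R11.z = b := by
    push_cast at e11
    linear_combination -(1 / 2) * e11
  -- the value at the product of order 3
  set w : Spor.Fi24' := ⟨_, R08.FiTwentyFour.even facts.hl facts.hk⟩ with hw
  have ew := h2 w _ (R08.FiTwentyFour.odd facts.hu) (by
    show Commute _ (_ * _)
    exact (show Commute _ _ from facts.lu.symm).mul_right (show Commute _ _ from facts.ku.symm))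
  rw [show (psi : Spor.Fi24 → ℂ) (w : Spor.Fi24) = C from V.val_n _ facts.hl _ facts.hk facts.lkn] at ew
  obtain ⟨c, hc⟩ := Characters.GaloisBasic.exists_int_of_rat (isIrr_isCharacter χ.2) w
    ⟨(C : ℚ) / 2, by push_cast; linear_combination -(1 / 2) * ew⟩
  rw [hc] at ew
  have hC : C = 2 * c := by exact_mod_cast ew
  subst hC
  have hpos := V.pos
  have hrel : (N : ℤ) + 31671 * b + 275264 * c = 0 := by
    have h3 := V.rel
    have h4 : (2 * (N : ℤ)) * (2 * ((N : ℤ) + 31671 * b + 275264 * c)) = 0 := by linarith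
    rcases mul_eq_zero.1 h4 with h5 | h5 <;> omega
  have p1 := V.psd1
  have p2 := V.psd2
  have h3 := three_psi V
  refine arithS3 (n := N) (b := b) (c := c) ?_ (by omega) hrel (by omega) (by omega) (by omega)
    (H843.Ore.R11.r11 χ hχ1 hb11) (R13.r13 facts index_commutator (fun d hd => R08.FiTwentyFour.odd hd) _ χ hχ1 hb)
  rw [← card_F']
  exact Blocks.Knorr.charDegree_dvd χ.2

/-- **The non-trivial degrees of `Fi24'` are at least 8671.** -/
theorem A3 (χ : IrrCharacter Spor.Fi24') (h : charDegree (χ : Spor.Fi24' → ℂ) ≠ 1) :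
    8671 ≤ charDegree (χ : Spor.Fi24' → ℂ) := by
  have hfin : Finite Spor.Fi24' := finite'
  have hfin' := finite_Fi24
  have hpos : 0 < charDegree (χ : Spor.Fi24' → ℂ) := by
    refine Nat.pos_of_ne_zero fun h0 => ?_
    have h1 := Blocks.Knorr.charDegree_dvd χ.2
    rw [h0, card_F'] at h1
    exact absurd (Nat.eq_zero_of_zero_dvd h1) (by norm_num)
  have hne : (χ : Spor.Fi24' → ℂ) ≠ 1 := by
    intro h1
    apply h
    have h2 := Blocks.Knorr.charDegree_eq χ.2
    have h3 : (χ : Spor.Fi24' → ℂ) 1 = 1 := by rw [h1, Pi.one_apply]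
    rw [h3] at h2
    exact_mod_cast h2.symm
  obtain ⟨psi, hpsi, h1 | ⟨h0, h2⟩⟩ := index_two (commutator Spor.Fi24) index_commutator χ.2
  · exact caseE3 (psi := ⟨psi, hpsi⟩) hne h1 (by omega)
  · exact caseS3 (χ := χ) (psi := ⟨psi, hpsi⟩) h0 h2

end Cfsg.Agent.H111.LD
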